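import Groth.Prelude.Def_DerCA
import Mathlib

/-! Derivations of a ring acting on extended Čech cohomology. -/

set_option autoImplicit false
set_option backward.isDefEq.respectTransparency false
set_option backward.isDefEq.respectTransparency.types false

universe u

open CategoryTheory CochainComplex.HomComplex

namespace H1DerLC

variable {A : Type u} [CommRing A] (θ : Derivation ℤ A A)

/-- `D` is an operator over `θ`. -/
def IsOp {M : Type u} [AddCommGroup M] [Module A M] (D : M →+ M) : Prop :=
  ∀ (a : A) (x : M), D (a • x) = θ a • x + a • D x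

theorem exists_of_linearEquiv {M N : Type u} [AddCommGroup M] [Module A M] [AddCommGroup N] [Module A N]
    (e : M ≃ₗ[A] N) {D : M →+ M} (hD : IsOp θ D) : ∃ D' : N →+ N, IsOp θ D' :=
  ⟨(e.toAddMonoidHom.comp D).comp e.symm.toAddMonoidHom, fun a x => by
    show e (D (e.symm (a • x))) = θ a • x + a • e (D (e.symm x))
    rw [map_smul, hD, map_add, map_smul, map_smul, e.apply_symm_apply]⟩

theorem loc_wd {M : Type u} [AddCommGroup M] [Module A M] (S : Submonoid A) {D : M →+ M} (hD : IsOp θ D)
    (x y : M) (s t : S) (u : S) (hu : (u : A) • (t : A) • x = (u : A) • (s : A) • y) :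
    LocalizedModule.mk ((s : A) • D x - θ s • x) (s * s) =
      LocalizedModule.mk ((t : A) • D y - θ t • y) (t * t) := by
  rw [LocalizedModule.mk_eq]
  refine ⟨u * u, ?_⟩
  simp only [Submonoid.smul_def, Submonoid.coe_mul]
  have h1 := congrArg D hu
  simp only [hD _ _, smul_add] at h1
  linear_combination (norm := module) (((u : A) * s * t)) • h1 -
    ((s : A) * t * θ u + (u : A) * t * θ s + (u : A) * s * θ t) • hu

theorem exists_loc {M : Type u} [AddCommGroup M] [Module A M] (S : Submonoid A) {D : M →+ M} (hD : IsOp θ D) :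
    ∃ D' : LocalizedModule S M →+ LocalizedModule S M, IsOp θ D' ∧
      ∀ (x : M) (s : S), D' (LocalizedModule.mk x s) = LocalizedModule.mk ((s : A) • D x - θ s • x) (s * s) := by
  let F : LocalizedModule S M → LocalizedModule S M := fun z => z.liftOn
    (fun p => LocalizedModule.mk ((p.2 : A) • D p.1 - θ p.2 • p.1) (p.2 * p.2)) (by
      rintro ⟨x, s⟩ ⟨y, t⟩ ⟨u, hu⟩
      exact loc_wd θ S hD x y s t u hu)
  have hF : ∀ (x : M) (s : S), F (LocalizedModule.mk x s) =
      LocalizedModule.mk ((s : A) • D x - θ s • x) (s * s) := fun x s => LocalizedModule.liftOn_mk _ x s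
  refine ⟨AddMonoidHom.mk' F fun z w => ?_, fun a z => ?_, hF⟩
  · induction z using LocalizedModule.induction_on with
    | _ x s =>
      induction w using LocalizedModule.induction_on with
      | _ y t =>
        rw [LocalizedModule.mk_add_mk, hF, hF, hF, LocalizedModule.mk_add_mk, LocalizedModule.mk_eq]
        refine ⟨1, ?_⟩
        simp only [Submonoid.smul_def, Submonoid.coe_mul, Submonoid.coe_one, map_add, hD _ _, Derivation.leibniz,
          smul_eq_mul, one_smul]
        module
  · induction z using LocalizedModule.induction_on with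
    | _ x s =>
      simp only [AddMonoidHom.mk'_apply]
      rw [LocalizedModule.smul'_mk, hF, hF, LocalizedModule.smul'_mk, LocalizedModule.smul'_mk,
        LocalizedModule.mk_add_mk, LocalizedModule.mk_eq]
      refine ⟨1, ?_⟩
      simp only [Submonoid.smul_def, Submonoid.coe_mul, Submonoid.coe_one, hD _ _, one_smul]
      module

/-- An operator on a complex. -/
def IsOpCx (K : CochainComplex (ModuleCat.{u} A) ℤ) (D : ∀ n, K.X n →+ K.X n) : Prop :=
  (∀ n, IsOp θ (D n)) ∧ ∀ i j x, D j ((K.d i j).hom x) = (K.d i j).hom (D i x)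

theorem exists_homology (S : ShortComplex (ModuleCat.{u} A)) {D₁ : S.X₁ →+ S.X₁} {D₂ : S.X₂ →+ S.X₂}
    {D₃ : S.X₃ →+ S.X₃} (h₂ : IsOp θ D₂) (hf : ∀ x, D₂ (S.f.hom x) = S.f.hom (D₁ x))
    (hg : ∀ x, D₃ (S.g.hom x) = S.g.hom (D₂ x)) :
    ∃ D : S.homology →+ S.homology, IsOp θ D := by
  let Z := LinearMap.ker S.g.hom
  let Dz : Z →+ Z := AddMonoidHom.mk' (fun z => ⟨D₂ z.1, by
    show S.g.hom (D₂ z.1) = 0
    rw [← hg, z.2, map_zero]⟩) fun z w => Subtype.ext (map_add D₂ _ _)
  let B := LinearMap.range S.moduleCatToCycles
  have hB : ∀ z ∈ B.toAddSubgroup, ((QuotientAddGroup.mk' B.toAddSubgroup).comp Dz) z = 0 := by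
    rintro _ ⟨x, rfl⟩
    exact (QuotientAddGroup.eq_zero_iff _).2 ⟨D₁ x, Subtype.ext (hf x).symm⟩
  let Dh : (Z ⧸ B) →+ (Z ⧸ B) := QuotientAddGroup.lift B.toAddSubgroup _ hB
  have hDh : IsOp θ Dh := by
    intro a q
    obtain ⟨z, rfl⟩ := Submodule.Quotient.mk_surjective _ q
    show Submodule.Quotient.mk (Dz (a • z)) = θ a • Submodule.Quotient.mk z + a • Submodule.Quotient.mk (Dz z)
    rw [← Submodule.Quotient.mk_smul, ← Submodule.Quotient.mk_smul, ← Submodule.Quotient.mk_add]
    exact congrArg _ (Subtype.ext (h₂ a z.1))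
  exact exists_of_linearEquiv θ S.moduleCatHomologyIso.toLinearEquiv.symm hDh

/-- Extended Čech complexes carry operators. -/
theorem exists_extCech (fs : List A) :
    ∃ D : ∀ n, (DerCA.extCech (ModuleCat.of A A) fs).X n →+ (DerCA.extCech (ModuleCat.of A A) fs).X n,
      IsOpCx θ (DerCA.extCech (ModuleCat.of A A) fs) D := by
  classical
  induction fs with
  | nil =>
    let K := (HomologicalComplex.single (ModuleCat.{u} A) (ComplexShape.up ℤ) 0).obj (ModuleCat.of A A)
    have hn : ∀ n, ∃ D : K.X n →+ K.X n, IsOp θ D := by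
      intro n
      by_cases h : n = 0
      · subst h
        exact exists_of_linearEquiv θ (HomologicalComplex.singleObjXSelf (ComplexShape.up ℤ) 0 (ModuleCat.of A A)).toLinearEquiv.symm
          (D := (θ : A →ₗ[ℤ] A).toAddMonoidHom) fun a x => by
            show θ (a * x) = θ a * x + a * θ x
            rw [Derivation.leibniz, smul_eq_mul, smul_eq_mul]; ring
      · haveI := ModuleCat.subsingleton_of_isZero (HomologicalComplex.isZero_single_obj_X (ComplexShape.up ℤ) 0 (ModuleCat.of A A) n h)
        exact ⟨0, fun a x => Subsingleton.elim _ _⟩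
    choose D hD using hn
    refine ⟨D, hD, fun i j x => ?_⟩
    have h0 : K.d i j = 0 := by simp [K]
    show D j ((K.d i j).hom x) = (K.d i j).hom (D i x)
    rw [h0]
    exact map_zero (D j)
  | cons f fs ih =>
    obtain ⟨D, hD, hd⟩ := ih
    let K := DerCA.extCech (ModuleCat.of A A) fs
    let S := Submonoid.powers f
    let L := (DerCA.locCx S).obj K
    let φ : K ⟶ L := DerCA.locCxUnit S K
    choose E hE hEmk using fun n => exists_loc θ S (hD n)
    have hφ : ∀ n x, E n ((φ.f n).hom x) = (φ.f n).hom (D n x) := by
      intro n x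
      show E n (LocalizedModule.mk x 1) = LocalizedModule.mk (D n x) 1
      rw [hEmk]
      simp
    have hEd : ∀ i j x, E j ((L.d i j).hom x) = (L.d i j).hom (E i x) := by
      intro i j x
      induction x using LocalizedModule.induction_on with
      | _ y s =>
        show E j ((IsLocalizedModule.map S (LocalizedModule.mkLinearMap S (K.X i)) (LocalizedModule.mkLinearMap S (K.X j))
            (K.d i j).hom) (LocalizedModule.mk y s)) =
          (IsLocalizedModule.map S (LocalizedModule.mkLinearMap S (K.X i)) (LocalizedModule.mkLinearMap S (K.X j))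
            (K.d i j).hom) (E i (LocalizedModule.mk y s))
        rw [hEmk, IsLocalizedModule.map_LocalizedModules, IsLocalizedModule.map_LocalizedModules, hEmk, map_sub,
          map_smul, map_smul, hd]
    let C := CochainComplex.mappingCone φ
    have inl' : ∀ p q : ℤ, q + 1 = p → (K.X p ⟶ C.X q) := fun p q h => (CochainComplex.mappingCone.inl φ).v p q (by omega)
    let Dc : ∀ n, C.X n →+ C.X n := fun n =>
      (((CochainComplex.mappingCone.inl φ).v (n + 1) n (by omega)).hom.toAddMonoidHom.comp
          ((D (n + 1)).comp ((CochainComplex.mappingCone.fst φ).1.v n (n + 1) rfl).hom.toAddMonoidHom)) +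
        (((CochainComplex.mappingCone.inr φ).f n).hom.toAddMonoidHom.comp
          ((E n).comp ((CochainComplex.mappingCone.snd φ).v n n (add_zero n)).hom.toAddMonoidHom))
    have hDc : ∀ n, IsOp θ (Dc n) := by
      intro n a x
      have hid : x = ((CochainComplex.mappingCone.inl φ).v (n + 1) n (by omega)).hom
          (((CochainComplex.mappingCone.fst φ).1.v n (n + 1) rfl).hom x) +
          ((CochainComplex.mappingCone.inr φ).f n).hom (((CochainComplex.mappingCone.snd φ).v n n (add_zero n)).hom x) :=
        (ConcreteCategory.congr_hom (CochainComplex.mappingCone.id_X φ n (n + 1) rfl) x).symm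
      show ((CochainComplex.mappingCone.inl φ).v (n + 1) n (by omega)).hom
            (D (n + 1) (((CochainComplex.mappingCone.fst φ).1.v n (n + 1) rfl).hom (a • x))) +
          ((CochainComplex.mappingCone.inr φ).f n).hom (E n (((CochainComplex.mappingCone.snd φ).v n n (add_zero n)).hom (a • x))) =
        θ a • x + a • (((CochainComplex.mappingCone.inl φ).v (n + 1) n (by omega)).hom
            (D (n + 1) (((CochainComplex.mappingCone.fst φ).1.v n (n + 1) rfl).hom x)) +
          ((CochainComplex.mappingCone.inr φ).f n).hom (E n (((CochainComplex.mappingCone.snd φ).v n n (add_zero n)).hom x)))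
      rw [LinearMap.map_smul, LinearMap.map_smul, hD (n + 1), hE n, map_add, map_add, LinearMap.map_smul, LinearMap.map_smul, LinearMap.map_smul, LinearMap.map_smul]
      linear_combination (norm := module) (-θ a) • hid
    have hfst : ∀ i j (h : i + 1 = j) (x : C.X i),
        ((CochainComplex.mappingCone.fst φ).1.v i j h).hom (Dc i x) =
          D j (((CochainComplex.mappingCone.fst φ).1.v i j h).hom x) := by
      intro i j h x
      subst h
      have h1 := ConcreteCategory.congr_hom (CochainComplex.mappingCone.inl_v_fst_v φ (i + 1) i rfl)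
      have h2 := ConcreteCategory.congr_hom (CochainComplex.mappingCone.inr_f_fst_v φ i (i + 1) rfl)
      show ((CochainComplex.mappingCone.fst φ).1.v i (i + 1) rfl).hom
        (((CochainComplex.mappingCone.inl φ).v (i + 1) i (by omega)).hom
            (D (i + 1) (((CochainComplex.mappingCone.fst φ).1.v i (i + 1) rfl).hom x)) +
          ((CochainComplex.mappingCone.inr φ).f i).hom (E i (((CochainComplex.mappingCone.snd φ).v i i (add_zero i)).hom x))) = _
      rw [map_add]
      exact (congrArg₂ (· + ·) (h1 _) (h2 _)).trans (add_zero _)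
    have hsnd : ∀ i (x : C.X i),
        ((CochainComplex.mappingCone.snd φ).v i i (add_zero i)).hom (Dc i x) =
          E i (((CochainComplex.mappingCone.snd φ).v i i (add_zero i)).hom x) := by
      intro i x
      have h1 := ConcreteCategory.congr_hom (CochainComplex.mappingCone.inl_v_snd_v φ (i + 1) i (by omega))
      have h2 := ConcreteCategory.congr_hom (CochainComplex.mappingCone.inr_f_snd_v φ i)
      show ((CochainComplex.mappingCone.snd φ).v i i (add_zero i)).hom
        (((CochainComplex.mappingCone.inl φ).v (i + 1) i (by omega)).hom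
            (D (i + 1) (((CochainComplex.mappingCone.fst φ).1.v i (i + 1) rfl).hom x)) +
          ((CochainComplex.mappingCone.inr φ).f i).hom (E i (((CochainComplex.mappingCone.snd φ).v i i (add_zero i)).hom x))) = _
      rw [map_add]
      exact (congrArg₂ (· + ·) (h1 _) (h2 _)).trans (zero_add _)
    have hcd : ∀ i j x, Dc j ((C.d i j).hom x) = (C.d i j).hom (Dc i x) := by
      intro i j x
      by_cases hij : i + 1 = j
      swap
      · rw [C.shape i j hij]
        exact map_zero (Dc j)
      have hid : ∀ z : C.X j, z = ((CochainComplex.mappingCone.inl φ).v (j + 1) j (by omega)).hom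
          (((CochainComplex.mappingCone.fst φ).1.v j (j + 1) rfl).hom z) +
          ((CochainComplex.mappingCone.inr φ).f j).hom (((CochainComplex.mappingCone.snd φ).v j j (add_zero j)).hom z) :=
        fun z => (ConcreteCategory.congr_hom (CochainComplex.mappingCone.id_X φ j (j + 1) rfl) z).symm
      rw [hid (Dc j _), hid ((C.d i j).hom (Dc i x))]
      have e1 := ConcreteCategory.congr_hom (CochainComplex.mappingCone.d_fst_v φ i j (j + 1) hij rfl)
      have e2 := ConcreteCategory.congr_hom (CochainComplex.mappingCone.d_snd_v φ i j hij)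
      congr 2
      · rw [hfst, show ((CochainComplex.mappingCone.fst φ).1.v j (j + 1) rfl).hom ((C.d i j).hom x) = _ from e1 x,
          show ((CochainComplex.mappingCone.fst φ).1.v j (j + 1) rfl).hom ((C.d i j).hom (Dc i x)) = _ from e1 (Dc i x)]
        show D (j + 1) (-((K.d j (j + 1)).hom (((CochainComplex.mappingCone.fst φ).1.v i j hij).hom x))) =
          -((K.d j (j + 1)).hom (((CochainComplex.mappingCone.fst φ).1.v i j hij).hom (Dc i x)))
        rw [map_neg, hd, hfst]
      · rw [hsnd, show ((CochainComplex.mappingCone.snd φ).v j j (add_zero j)).hom ((C.d i j).hom x) = _ from e2 x,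
          show ((CochainComplex.mappingCone.snd φ).v j j (add_zero j)).hom ((C.d i j).hom (Dc i x)) = _ from e2 (Dc i x)]
        show E j ((φ.f j).hom (((CochainComplex.mappingCone.fst φ).1.v i j hij).hom x) +
            (L.d i j).hom (((CochainComplex.mappingCone.snd φ).v i i (add_zero i)).hom x)) =
          (φ.f j).hom (((CochainComplex.mappingCone.fst φ).1.v i j hij).hom (Dc i x)) +
            (L.d i j).hom (((CochainComplex.mappingCone.snd φ).v i i (add_zero i)).hom (Dc i x))
        rw [map_add, hφ, hEd, hfst, hsnd]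
    refine ⟨fun n => Dc (n + (-1)), fun n => hDc _, fun i j x => ?_⟩
    show Dc (j + (-1)) (((-1 : ℤ).negOnePow • C.d (i + (-1)) (j + (-1))).hom x) =
      ((-1 : ℤ).negOnePow • C.d (i + (-1)) (j + (-1))).hom (Dc (i + (-1)) x)
    simp only [Int.negOnePow_neg, Int.negOnePow_one, Units.neg_smul, one_smul, ModuleCat.hom_neg, LinearMap.neg_apply,
      map_neg, hcd]

theorem exists_extCechH (fs : List A) (n : ℤ) :
    ∃ D : DerCA.extCechH fs (ModuleCat.of A A) n →+ DerCA.extCechH fs (ModuleCat.of A A) n, IsOp θ D := by
  obtain ⟨D, hD, hd⟩ := exists_extCech θ fs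
  exact exists_homology θ ((DerCA.extCech (ModuleCat.of A A) fs).sc n) (hD _) (hd _ _) (hd _ _)

end H1DerLC
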